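import Groth.Agent.AmpleFamGen.Basic
import Groth.Prelude.Def_PerfAux
import Groth.Agent.QCoh.ExtendFT
import Groth.Agent.QCoh.Support
import Groth.Agent.QCoh.Qcqs
import Groth.Agent.KFlatLib.Perfect.LocFree
import Mathlib.AlgebraicGeometry.Morphisms.Affine

/-!
# The resolution property along affine morphisms
-/

universe u

open CategoryTheory CategoryTheory.Limits AlgebraicGeometry TopologicalSpace Opposite

set_option backward.isDefEq.respectTransparency false
set_option backward.isDefEq.respectTransparency.types false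
set_option linter.style.haveILetI false

attribute [local instance] CategoryTheory.Abelian.hasFiniteBiproducts

namespace Groth.Agent.AmpleFamGen

open Groth.Agent

variable {X Y : Scheme.{u}}

/-- A finite sum of finite locally free modules is finite locally free. -/
theorem isFinLocFree_biproduct' {r : ℕ} (N : Fin r → X.Modules) (h : ∀ i, FlatMod.IsFinLocFree (N i)) :
    FlatMod.IsFinLocFree (⨁ N) := by
  intro x
  choose U n hx e using fun i => h i x
  let V : X.Opens := ⟨⋂ i, (U i : Set X), isOpen_iInter_of_finite fun i => (U i).2⟩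
  have hxV : x ∈ V := Set.mem_iInter.2 hx
  have hle : ∀ i, V ≤ U i := fun i => Set.iInter_subset (fun i => (U i : Set X)) i
  let R := Scheme.Modules.restrictFunctor V.ι
  haveI : PreservesColimitsOfShape (Discrete (Fin r)) R :=
    (Scheme.Modules.restrictAdjunction V.ι).leftAdjoint_preservesColimits.preservesColimitsOfShape
  haveI := preservesBiproductsOfShape_of_preservesCoproductsOfShape (J := Fin r) R
  exact ⟨V, Fintype.card (Σ i, Fin (n i)), hxV, ⟨R.mapBiproduct N ≪≫ biproduct.isoCoproduct _ ≪≫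
    Sigma.mapIso (fun i => KFlatLib.restrictFreeIso (hle i) (e i).some) ≪≫
    sigmaSigmaIso (fun i => Fin (n i)) (fun _ _ => Coh.structureModule (V : Scheme.{u})) ≪≫
    Sigma.whiskerEquiv (f := fun _ : (Σ i, Fin (n i)) => Coh.structureModule (V : Scheme.{u})) (g := fun _ : Fin (Fintype.card (Σ i, Fin (n i))) => Coh.structureModule (V : Scheme.{u})) (Fintype.equivFin (Σ i, Fin (n i))) fun _ => Iso.refl _⟩⟩

/-- Finitely many sections on an affine open come from a finite locally free module. -/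
theorem exists_flf_hit [CompactSpace Y] [QuasiSeparatedSpace Y] (hY : PerfAux.HasResolutionProperty Y)
    {G : Y.Modules} (hG : Coh.IsQCoh G) {V : Y.Opens} (hV : IsAffineOpen V) {T : Set Γ(G, V)} (hT : T.Finite) :
    ∃ (E : Y.Modules) (φ : E ⟶ G), FlatMod.IsFinLocFree E ∧ ∀ t ∈ T, ∃ e, φ.app V e = t := by
  obtain ⟨p, hpU, hsup, hstep⟩ := QCoh.extStep_qcqs hV.isCompact
  obtain ⟨N, hN, hag⟩ := QCoh.exists_ftOn_top hG p hpU hsup hstep (QCoh.ftOn_spanSub hV hT)
  have hNq := QCoh.isQCoh_of_ftOn hG hN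
  obtain ⟨E, π, hE, hπ⟩ := hY N.toModules hNq (QCoh.isFT_of_ftOn hG hN)
  refine ⟨E, π ≫ N.ι, hE, fun t ht => ?_⟩
  obtain ⟨a, ha⟩ := N.exists_app_eq (s := t) (U := V) (by rw [hag V le_rfl]; exact QCoh.mem_spanSub ht)
  obtain ⟨e, he⟩ := QCoh.app_surjective_of_epi (QCoh.isQCoh_of_isFinLocFree hE) hNq π hV a
  exact ⟨e, (congrArg (N.ι.app V) he).trans ha⟩

theorem hasResolutionProperty_of_affine (f : X ⟶ Y) [IsAffineHom f] [CompactSpace Y] [QuasiSeparatedSpace Y]
    (hY : PerfAux.HasResolutionProperty Y) : PerfAux.HasResolutionProperty X := by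
  classical
  intro F hF hft
  haveI : CompactSpace X := QuasiCompact.compactSpace_of_compactSpace f
  have hG := QCoh.isQCoh_pushforward f hF
  let adj := Scheme.Modules.pullbackPushforwardAdjunction f
  have hstep : ∀ x : X, ∃ (V : Y.Opens) (E : Y.Modules) (ψ : (Scheme.Modules.pullback f).obj E ⟶ F),
      f x ∈ V ∧ FlatMod.IsFinLocFree E ∧ ∀ p ∈ f ⁻¹ᵁ V, Epi ((DerSch.stalkFunctor X p).map ψ) := fun x => by
    obtain ⟨V, hV, hxV, -⟩ := exists_isAffineOpen_mem_and_subset (x := f x) (U := (⊤ : Y.Opens)) trivial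
    have hW : IsAffineOpen (f ⁻¹ᵁ V) := hV.preimage f
    obtain ⟨J, t, ht⟩ := Submodule.fg_iff_exists_fin_generating_family.1 (QCoh.finite_of_isFT hF hft hW).fg_top
    obtain ⟨E, φ, hE, hφ⟩ := exists_flf_hit hY hG hV
      (T := Set.range fun j => (show Γ((Scheme.Modules.pushforward f).obj F, V) from t j)) (Set.finite_range _)
    refine ⟨V, E, (adj.homEquiv E F).symm φ, hxV, hE, fun p hp => ?_⟩
    rw [ModuleCat.epi_iff_range_eq_top, eq_top_iff]
    have hspan : Submodule.span (X.presheaf.stalk p)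
        (Set.range fun j => F.presheaf.germ (f ⁻¹ᵁ V) p hp (t j)) = ⊤ := by
      letI := QCoh.stalkAlg (X := X) hp
      letI := QCoh.stalkModule F hp
      haveI := QCoh.isScalarTower_stalk F hp
      haveI := QCoh.isLocalization_stalk' hW hp
      haveI := QCoh.isLocalizedModule_germLin hF hW hp
      have h1 : Submodule.localized' (X.presheaf.stalk p) (hW.primeIdealOf ⟨p, hp⟩).asIdeal.primeCompl
          (QCoh.germLin F hp) (Submodule.span Γ(X, f ⁻¹ᵁ V) (Set.range t)) = ⊤ := by
        rw [ht, Submodule.localized'_top]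
      rw [Submodule.localized'_span, ← Set.range_comp] at h1
      exact h1
    rw [← hspan, Submodule.span_le]
    rintro _ ⟨j, rfl⟩
    obtain ⟨e, he⟩ := hφ _ ⟨j, rfl⟩
    refine ⟨((Scheme.Modules.pullback f).obj E).presheaf.germ (f ⁻¹ᵁ V) p hp (InvX.pullElt f e), ?_⟩
    refine (DerSch.stalkFunctor_map_germ p _ (f ⁻¹ᵁ V) hp _).trans (congrArg _ ?_)
    refine Eq.trans ?_ he
    have h := adj.homEquiv_unit (f := (adj.homEquiv E F).symm φ)
    rw [Equiv.apply_symm_apply] at h
    exact (congrArg (fun χ => χ.app V e) h).symm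
  choose V E ψ hxV hE hepi using hstep
  obtain ⟨S, hS⟩ := isCompact_univ.elim_finite_subcover (fun y => ((f ⁻¹ᵁ V y : X.Opens) : Set X))
    (fun y => (f ⁻¹ᵁ V y).2) (fun y _ => Set.mem_iUnion.2 ⟨y, hxV y⟩)
  let eI := (Fintype.equivFin S).symm
  let N : Fin (Fintype.card S) → X.Modules := fun i => (Scheme.Modules.pullback f).obj (E (eI i))
  let p : ⨁ N ⟶ F := biproduct.desc fun i => ψ (eI i)
  refine ⟨⨁ N, p, isFinLocFree_biproduct' N fun i => KFlatLib.isFinLocFree_pullback f (hE _),
    epi_of_stalk p fun x => ?_⟩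
  obtain ⟨y, hy, hxy⟩ := Set.mem_iUnion₂.1 (hS (Set.mem_univ x))
  obtain ⟨i, hi⟩ := eI.surjective ⟨y, hy⟩
  haveI : Epi ((DerSch.stalkFunctor X x).map (ψ (eI i))) := hepi _ x (by rw [hi]; exact hxy)
  haveI : Epi ((DerSch.stalkFunctor X x).map (biproduct.ι N i) ≫ (DerSch.stalkFunctor X x).map p) := by
    rw [← Functor.map_comp, biproduct.ι_desc]; infer_instance
  exact epi_of_epi ((DerSch.stalkFunctor X x).map (biproduct.ι N i)) _

end Groth.Agent.AmpleFamGen
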