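import Groth.Agent.AmpleX.ExtendQS
import Groth.Agent.AmpleX.Generated
import Groth.Agent.KFlatLib.Scheme.TensorStalk

/-!
# Modules of finite type as quotients of negative powers in an ample family
-/

universe u

open CategoryTheory CategoryTheory.Limits AlgebraicGeometry TopologicalSpace Opposite MonoidalCategory

set_option backward.isDefEq.respectTransparency false
set_option backward.isDefEq.respectTransparency.types false
set_option linter.style.haveILetI false

attribute [local instance] CategoryTheory.Abelian.hasFiniteBiproducts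

open Groth.Agent.H23.PicMul

namespace Groth.Agent.AmpleFamGen

open Groth.Agent

variable {X : Scheme.{u}}

/-- Epimorphisms are detected on stalks. -/
theorem epi_of_stalk {Z F : X.Modules} (π : Z ⟶ F) (h : ∀ x : X, Epi ((DerSch.stalkFunctor X x).map π)) :
    Epi π := ⟨fun {W} a b hab => by
  refine Scheme.Modules.hom_ext _ _ fun V => ?_
  ext m
  refine TopCat.Presheaf.section_ext ⟨W.presheaf, W.isSheaf⟩ _ _ _ fun x hx => ?_
  have := h x
  have e : (DerSch.stalkFunctor X x).map a = (DerSch.stalkFunctor X x).map b := by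
    rw [← cancel_epi ((DerSch.stalkFunctor X x).map π), ← Functor.map_comp, ← Functor.map_comp, hab]
  exact (DerSch.stalkFunctor_map_germ x a V hx m).symm.trans
    ((congrArg (fun φ => φ (F.presheaf.germ V x hx m)) e).trans (DerSch.stalkFunctor_map_germ x b V hx m))⟩

/-- A map hitting sections whose germs span is surjective on that stalk. -/
theorem epi_stalk_of_span {Z W : X.Modules} (ψ : Z ⟶ W) {J : Type*} (T : J → Γ(W, ⊤))
    (j : J → (Coh.structureModule X ⟶ Z)) (hj : ∀ i, InvX.one (j i ≫ ψ) = T i) (x : X)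
    (h : Submodule.span (X.presheaf.stalk x) (Set.range fun i => W.presheaf.germ ⊤ x trivial (T i)) = ⊤) :
    Epi ((DerSch.stalkFunctor X x).map ψ) := by
  rw [ModuleCat.epi_iff_range_eq_top, eq_top_iff, ← h, Submodule.span_le]
  rintro _ ⟨i, rfl⟩
  refine ⟨Z.presheaf.germ ⊤ x trivial (InvX.one (j i)), ?_⟩
  refine (DerSch.stalkFunctor_map_germ x ψ ⊤ trivial (InvX.one (j i))).trans ?_
  exact congrArg (W.presheaf.germ ⊤ x trivial) (hj i)

theorem epi_stalk_tensor (D : X.Modules) {A B : X.Modules} (ψ : A ⟶ B) (x : X)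
    [Epi ((DerSch.stalkFunctor X x).map ψ)] :
    Epi ((DerSch.stalkFunctor X x).map ((DCoh.tensorBi.obj D).map ψ)) := by
  haveI h0 : Epi ((DerSch.stalkFunctor X x ⋙ tensorLeft ((DerSch.stalkFunctor X x).obj D)).map ψ) := by
    rw [ModuleCat.epi_iff_surjective]
    exact LinearMap.lTensor_surjective _ ((ModuleCat.epi_iff_surjective _).1 ‹_›)
  let e := KFlatLib.stalkTensorLeftIso D x
  haveI : Epi ((DCoh.tensorBi.obj D ⋙ DerSch.stalkFunctor X x).map ψ ≫ e.hom.app B) := by
    rw [e.hom.naturality ψ]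
    exact epi_comp _ _
  exact (epi_comp_iff_of_isIso (f := (DCoh.tensorBi.obj D ⋙ DerSch.stalkFunctor X x).map ψ) (e.hom.app B)).1 ‹_›

/-- A module of finite type near a point with an affine generating locus. -/
theorem exists_twist_hit [CompactSpace X] [QuasiSeparatedSpace X] {P F : X.Modules} (hP : PicF.IsInvertible P)
    (s : Coh.structureModule X ⟶ P) (hG : IsAffineOpen (CohB1.genLocus P s)) (hF : Coh.IsQCoh F)
    (hft : CohB1.IsFT F) :
    ∃ (n J : ℕ) (D : X.Modules) (π : (DCoh.tensorBi.obj D).obj (FlatMod.freeMod X J) ⟶ F),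
      PicF.IsInvertible D ∧ Nonempty (CohB1.tensorMod D (CohB1.tensorPow P (n + 1)) ≅ Coh.structureModule X) ∧
      ∀ x ∈ CohB1.genLocus P s, Epi ((DerSch.stalkFunctor X x).map π) := by
  obtain ⟨J, t, ht⟩ := Submodule.fg_iff_exists_fin_generating_family.1 (QCoh.finite_of_isFT hF hft hG).fg_top
  choose n₀ hn₀ using fun j => AmpleX.exists_extend' hF hP s (t j)
  let n := Finset.univ.sup n₀
  choose T hT using fun j => hn₀ j (n + 1) ((Finset.le_sup (Finset.mem_univ j)).trans n.le_succ)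
  have hPn := InvX.isInvertible_tensorPow hP (n + 1)
  obtain ⟨D, hD, ⟨e⟩⟩ := H23.PicInv.exists_inverse hPn
  obtain ⟨c⟩ := H23.PicMul.comm D (CohB1.tensorPow P (n + 1))
  obtain ⟨c'⟩ := H23.PicMul.comm D (CohB1.tensorMod F (CohB1.tensorPow P (n + 1)))
  obtain ⟨a⟩ := H23.PicMul.assoc F (CohB1.tensorPow P (n + 1)) D
  obtain ⟨v⟩ := H23.PicMul.unit F
  let W := CohB1.tensorMod F (CohB1.tensorPow P (n + 1))
  let ψ : FlatMod.freeMod X J ⟶ W := Sigma.desc fun i => InvX.ofSect (T i)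
  let ε : (DCoh.tensorBi.obj D).obj W ≅ F := c' ≪≫ a ≪≫ (DCoh.tensorBi.obj F).mapIso e ≪≫ v
  refine ⟨n, J, D, (DCoh.tensorBi.obj D).map ψ ≫ ε.hom, hD, ⟨c ≪≫ e⟩, fun x hx => ?_⟩
  have hspan : Submodule.span (X.presheaf.stalk x)
      (Set.range fun j => F.presheaf.germ (CohB1.genLocus P s) x hx (t j)) = ⊤ := by
    letI := QCoh.stalkAlg (X := X) hx
    letI := QCoh.stalkModule F hx
    haveI := QCoh.isScalarTower_stalk F hx
    haveI := QCoh.isLocalization_stalk' hG hx
    haveI := QCoh.isLocalizedModule_germLin hF hG hx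
    have h1 : Submodule.localized' (X.presheaf.stalk x) (hG.primeIdealOf ⟨x, hx⟩).asIdeal.primeCompl
        (QCoh.germLin F hx) (Submodule.span Γ(X, CohB1.genLocus P s) (Set.range t)) = ⊤ := by
      rw [ht, Submodule.localized'_top]
    rw [Submodule.localized'_span, ← Set.range_comp] at h1
    exact h1
  have h2 := AmpleX.span_germ_tmul_eq_top hx t hspan
    (AmpleX.isFrame_powElt (AmpleX.res_genLocus_frame s) (n + 1))
  haveI : Epi ((DerSch.stalkFunctor X x).map ψ) :=
    epi_stalk_of_span ψ T (fun i => Sigma.ι (fun _ : Fin J => Coh.structureModule X) i)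
      (fun i => (congrArg InvX.one (Sigma.ι_desc _ _)).trans (InvX.one_ofSect _)) x (by
        convert h2 using 4 with j
        exact (InvX.germ_res' le_top hx (T j)).symm.trans (congrArg _ (hT j)))
  haveI := epi_stalk_tensor D ψ x
  rw [Functor.map_comp]
  exact epi_comp _ _

/-- A module of finite type is a quotient of a finite sum of negative powers. -/
theorem exists_epi_negPowers {κ : Type*} [CompactSpace X] [QuasiSeparatedSpace X] (P : κ → X.Modules)
    (hP : ∀ k, PicF.IsInvertible (P k))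
    (hcov : ∀ x : X, ∃ (k : κ) (m : ℕ) (s : Coh.structureModule X ⟶ CohB1.tensorPow (P k) (m + 1)),
      x ∈ CohB1.genLocus _ s ∧ IsAffineOpen (CohB1.genLocus _ s))
    {F : X.Modules} (hF : Coh.IsQCoh F) (hft : CohB1.IsFT F) :
    ∃ (r : ℕ) (N : Fin r → X.Modules) (π : ⨁ N ⟶ F), Epi π ∧ ∀ i, PicF.IsInvertible (N i) ∧
      ∃ (k : κ) (q : ℕ), 0 < q ∧ Nonempty (CohB1.tensorMod (N i) (CohB1.tensorPow (P k) q) ≅ Coh.structureModule X) := by
  classical
  choose k m s hxs hsa using hcov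
  obtain ⟨S, hS⟩ := isCompact_univ.elim_finite_subcover (fun y => (CohB1.genLocus _ (s y) : Set X))
    (fun y => (CohB1.genLocus _ (s y)).2) (fun y _ => Set.mem_iUnion.2 ⟨y, hxs y⟩)
  choose n J D π hD hDrel hepi using fun y : S =>
    exists_twist_hit (InvX.isInvertible_tensorPow (hP (k y.1)) (m y.1 + 1)) (s y.1) (hsa y.1) hF hft
  let eI := (Fintype.equivFin (Σ y : S, Fin (J y))).symm
  let N : Fin (Fintype.card (Σ y : S, Fin (J y))) → X.Modules := fun i => D (eI i).1
  let ι₀ : ∀ (y : S) (j : Fin (J y)), (DCoh.tensorBi.obj (D y)).obj (Coh.structureModule X) ⟶ F := fun y j =>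
    (DCoh.tensorBi.obj (D y)).map (Sigma.ι (fun _ : Fin (J y) => Coh.structureModule X) j) ≫ π y
  let u : ∀ y : S, D y ≅ (DCoh.tensorBi.obj (D y)).obj (Coh.structureModule X) := fun y =>
    (H23.PicMul.unit (D y)).some.symm
  let p : ⨁ N ⟶ F := biproduct.desc fun i => (u (eI i).1).hom ≫ ι₀ (eI i).1 (eI i).2
  refine ⟨_, N, p, epi_of_stalk p fun x => ?_, fun i => ⟨hD _, k (eI i).1.1, (m (eI i).1.1 + 1) * (n (eI i).1 + 1),
    Nat.mul_pos (Nat.succ_pos _) (Nat.succ_pos _), ?_⟩⟩
  · obtain ⟨y, hy, hxy⟩ := Set.mem_iUnion₂.1 (hS (Set.mem_univ x))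
    haveI := hepi ⟨y, hy⟩ x hxy
    haveI : PreservesColimitsOfShape (Discrete (Fin (J ⟨y, hy⟩)))
        ((DCoh.tensorBi (X := X)).obj (D ⟨y, hy⟩)) :=
      preservesColimitsOfShape_of_natIso ((KFlatLib.tensorBiFlipIso X).app (D ⟨y, hy⟩))
    let T := (DCoh.tensorBi (X := X)).obj (D ⟨y, hy⟩)
    let φ : T.obj (FlatMod.freeMod X (J ⟨y, hy⟩)) ⟶ ⨁ N :=
      (PreservesCoproduct.iso T _).hom ≫ Sigma.desc fun j =>
        (u ⟨y, hy⟩).inv ≫ eqToHom (by simp [N]) ≫ biproduct.ι N (eI.symm ⟨⟨y, hy⟩, j⟩)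
    have hφ : φ ≫ p = π ⟨y, hy⟩ := by
      rw [← cancel_epi (PreservesCoproduct.iso T _).inv]
      refine Sigma.hom_ext _ _ fun j => ?_
      simp only [φ, p, Category.assoc, Iso.inv_hom_id_assoc, Sigma.ι_desc_assoc, biproduct.ι_desc]
      have hh : ∀ (a b : Σ y : S, Fin (J y)) (e : a = b) (w : D b.1 = D a.1),
          eqToHom w ≫ (u a.1).hom ≫ ι₀ a.1 a.2 = (u b.1).hom ≫ ι₀ b.1 b.2 := by
        rintro a _ rfl w; simp
      rw [hh (eI (eI.symm ⟨⟨y, hy⟩, j⟩)) ⟨⟨y, hy⟩, j⟩ (eI.apply_symm_apply _) _, Iso.inv_hom_id_assoc]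
      rw [PreservesCoproduct.inv_hom, ι_comp_sigmaComparison_assoc]
    haveI : Epi ((DerSch.stalkFunctor X x).map φ ≫ (DerSch.stalkFunctor X x).map p) := by
      rw [← Functor.map_comp, hφ]; infer_instance
    exact epi_of_epi ((DerSch.stalkFunctor X x).map φ) _
  · obtain ⟨r⟩ := hDrel (eI i).1
    obtain ⟨q⟩ := H23.PicMul.cl_eq_iff.1 (show PicF.cl (CohB1.tensorMod (N i)
        (CohB1.tensorPow (P (k (eI i).1.1)) ((m (eI i).1.1 + 1) * (n (eI i).1 + 1)))) =
      PicF.cl (CohB1.tensorMod (D (eI i).1)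
        (CohB1.tensorPow (CohB1.tensorPow (P (k (eI i).1.1)) (m (eI i).1.1 + 1)) (n (eI i).1 + 1))) by
      rw [H23.PicMul.cl_tensor, H23.PicMul.cl_tensor, H23.PicMul.cl_tensorPow, H23.PicMul.cl_tensorPow,
        H23.PicMul.cl_tensorPow, pow_mul])
    exact ⟨q ≪≫ r⟩

/-- A finite sum of invertible modules is finite locally free. -/
theorem isFinLocFree_biproduct {r : ℕ} (N : Fin r → X.Modules) (h : ∀ i, PicF.IsInvertible (N i)) :
    FlatMod.IsFinLocFree (⨁ N) := by
  intro x
  choose U hx e he using fun i => InvX.exists_frame (h i) x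
  let V : X.Opens := ⟨⋂ i, (U i : Set X), isOpen_iInter_of_finite fun i => (U i).2⟩
  have hxV : x ∈ V := Set.mem_iInter.2 hx
  have hi : ∀ i, Nonempty ((N i).restrict V.ι ≅ Coh.structureModule (V : Scheme.{u})) := fun i =>
    InvUfdLib.nonempty_iso_restrict_of_frame ((he i).res (Set.iInter_subset (fun i => (U i : Set X)) i))
  let R := Scheme.Modules.restrictFunctor V.ι
  haveI : PreservesColimitsOfShape (Discrete (Fin r)) R :=
    (Scheme.Modules.restrictAdjunction V.ι).leftAdjoint_preservesColimits.preservesColimitsOfShape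
  haveI := preservesBiproductsOfShape_of_preservesCoproductsOfShape (J := Fin r) R
  exact ⟨V, r, hxV, ⟨R.mapBiproduct N ≪≫ biproduct.isoCoproduct _ ≪≫
    Sigma.mapIso fun i => (hi i).some⟩⟩

end Groth.Agent.AmpleFamGen
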