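import Groth.Agent.BlowUpLib.Glue
import Groth.Agent.CurveAlgEquiv.PullIdeal
import Groth.Agent.OmegaLib.IdealMod
import Groth.Agent.S8914
import Groth.Agent.AmpleX.Sect

/-!
# The exceptional ideal of a blowing up of an affine scheme is ample
-/

universe u

open CategoryTheory CategoryTheory.Limits AlgebraicGeometry TopologicalSpace Opposite
open Groth.Agent.H23.PicMul

set_option backward.isDefEq.respectTransparency false
set_option backward.isDefEq.respectTransparency.types false
set_option linter.style.haveILetI false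

namespace Groth.Agent.AmpleFamGen

open Groth.Agent Groth.Agent.BlowUpLib

variable {A : Type u} [CommRing A] {I : Ideal A} {P : Scheme.{u}} {g : P ⟶ Spec (CommRingCat.of A)}

theorem strHom_res (g : P ⟶ Spec (CommRingCat.of A)) {W W' : P.Opens} (h : W' ≤ W) (a : A) :
    strHom g W' a = AModX.resR h (strHom g W a) := by
  have : strHom g W' = (P.presheaf.map (homOfLE h).op).hom.comp (strHom g W) := by
    rw [strHom, strHom, ← CommRingCat.hom_comp, Category.assoc, Scheme.Hom.appLE_map]
  rw [this]
  rfl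

/-- The exceptional ideal of the blowing up of an affine scheme in a finitely generated ideal is ample. -/
theorem isAmple_exceptional (hb : BlowUp.IsBlowUp g (centre I)) (hI : I.FG) :
    CohB1.IsAmple (ClSub.idealMod ((centre I).comap g)) := by
  let E := (centre I).comap g
  have hEi : PicF.IsInvertible (ClSub.idealMod E) := (S8914.result E).2 hb.1
  haveI : IsProper g := isProper_of_isBlowUp (centre I) hb fun U => by
    have h1 : (centre I).ideal U = Ideal.map (CommRingCat.Hom.hom ((Spec (CommRingCat.of A)).presheaf.map (homOfLE (le_top : U.1 ≤ ⊤)).op))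
        ((centre I).ideal ⟨⊤, isAffineOpen_top _⟩) :=
      ((centre I).map_ideal (U := U) (V := ⟨⊤, isAffineOpen_top _⟩) (show U.1 ≤ ⊤ from le_top)).symm
    rw [h1, centre_top, Ideal.map_map]
    exact hI.map _
  haveI : CompactSpace P := QuasiCompact.compactSpace_of_compactSpace g
  refine ⟨hEi, inferInstance, fun z => ?_⟩
  obtain ⟨h, hh⟩ := exists_lift I hb.1
  obtain ⟨e, he⟩ := exists_iso hb (isBlowUp_local I)
  have hh' : h = e.hom := unique_lift I hb.1 h e.hom hh he
  haveI : IsIso h := hh' ▸ inferInstance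
  obtain ⟨a, hza⟩ := chart_covers I (h z)
  -- the section given by `a`
  have hmem : ∀ W : P.affineOpens, strHom g W.1 (a : A) ∈ E.ideal W := fun W => by
    show _ ∈ ((centre I).comap g).ideal W
    rw [ideal_comap_centre]
    exact Ideal.mem_map_of_mem _ a.2
  obtain ⟨t, ht⟩ : ∃ t : Γ(ClSub.idealMod E, ⊤), OmegaSh.idealSect E ⊤ t = strHom g ⊤ (a : A) := by
    choose k hk using fun W : P.affineOpens => OmegaLib.exists_of_mem E W _ (hmem W)
    have hres : ∀ (W : P.affineOpens) (V : P.Opens) (hV : V ≤ W.1),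
        OmegaSh.idealSect E V (AModX.res _ hV (k W)) = strHom g V (a : A) := fun W V hV => by
      refine (OmegaLib.idealSect_map E hV (k W)).trans ?_
      rw [hk W, strHom_res g hV]
      rfl
    obtain ⟨t, ht, -⟩ := AModX.existsUnique_glue (M := ClSub.idealMod E) (V := ⊤)
      (fun W : P.affineOpens => W.1) (fun _ => le_top) (fun x _ => by
        obtain ⟨W, hW, hxW, -⟩ := exists_isAffineOpen_mem_and_subset (x := x) (U := (⊤ : P.Opens)) trivial
        exact ⟨⟨W, hW⟩, hxW⟩) k
      (fun W W' => OmegaLib.idealSect_injective E _ ((hres W _ _).trans (hres W' _ _).symm))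
    refine ⟨t, TopCat.Presheaf.section_ext ⟨P.presheaf, P.sheaf.property⟩ _ _ _ fun x hx => ?_⟩
    obtain ⟨W, hW, hxW, -⟩ := exists_isAffineOpen_mem_and_subset (x := x) (U := (⊤ : P.Opens)) trivial
    refine TopCat.Presheaf.germ_ext P.presheaf W hxW (homOfLE le_top) (homOfLE le_top) ?_
    exact ((OmegaLib.idealSect_map E (le_top : W ≤ ⊤) t).symm.trans
      ((congrArg (OmegaSh.idealSect E W) (ht ⟨W, hW⟩)).trans (hk ⟨W, hW⟩))).trans (strHom_res g le_top _)
  have htr : ∀ (V : P.Opens), OmegaSh.idealSect E V (AModX.res _ le_top t) = strHom g V (a : A) := fun V => by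
    refine (OmegaLib.idealSect_map E le_top t).trans ?_
    rw [ht, strHom_res g (le_top : V ≤ ⊤)]
    rfl
  let O := h ⁻¹ᵁ (chart I a).opensRange
  have hO : IsAffineOpen O := (isAffineOpen_opensRange (chart I a)).preimage h
  have key : AmpleX.locus t = O := by
    refine Opens.ext (Set.ext fun w => ⟨fun hw => ?_, fun hw => ?_⟩)
    · obtain ⟨W₀, hw₀, ε₀, hε₀⟩ := InvX.exists_frame hEi w
      obtain ⟨W, hW, hwW, hle⟩ := exists_isAffineOpen_mem_and_subset (show w ∈ W₀ ⊓ AmpleX.locus t from ⟨hw₀, hw⟩)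
      have hWW : W ≤ W₀ := fun x hx => (hle hx).1
      let ε := AModX.res _ hWW ε₀
      have hε : InvX.IsFrame ε := hε₀.res _
      obtain ⟨c, hc⟩ := hε.exists_coord le_rfl (AModX.res _ (le_top : W ≤ ⊤) t)
      rw [AModX.res_self] at hc
      have hcu : IsUnit c := by
        have h1 := AmpleX.locus_inf t le_top hε hc
        have h2 : P.basicOpen c = W := le_antisymm (P.basicOpen_le c) (fun x hx => h1.le ⟨(hle hx).2, hx⟩)
        have h4 : ∀ (V : P.Opens) (e : V = W) (hV : V ≤ W), IsUnit (P.presheaf.map (homOfLE hV).op c) → IsUnit c := by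
          rintro V rfl hV hu
          rwa [show (homOfLE hV).op = 𝟙 _ from rfl, P.presheaf.map_id] at hu
        exact h4 _ h2 (P.basicOpen_le c) (P.toRingedSpace.isUnit_res_basicOpen c)
      refine range_subset_chart I hb.1 h hh a ⟨W, hW⟩ ?_ w hwW
      have h3 := htr W
      rw [hc, OmegaLib.idealSect_smul] at h3
      show E.ideal ⟨W, hW⟩ = _
      rw [CurveAlgEquiv.ideal_eq_span ⟨W, hW⟩ hε, ← h3, Ideal.span_singleton_mul_left_unit hcu]
    · obtain ⟨W₀, hw₀, ε₀, hε₀⟩ := InvX.exists_frame hEi w
      obtain ⟨W, hW, hwW, hle⟩ := exists_isAffineOpen_mem_and_subset (show w ∈ W₀ ⊓ O from ⟨hw₀, hw⟩)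
      have hWW : W ≤ W₀ := fun x hx => (hle hx).1
      let ε := AModX.res _ hWW ε₀
      have hε : InvX.IsFrame ε := hε₀.res _
      have hrange : Set.range (hW.fromSpec ≫ h) ⊆ Set.range (chart I a) := by
        rintro _ ⟨p, rfl⟩
        exact (hle (hW.range_fromSpec.le (Set.mem_range_self p))).2
      obtain ⟨ψ, hψ⟩ := Spec.map_surjective (IsOpenImmersion.lift (chart I a) (hW.fromSpec ≫ h) hrange)
      have hψφ : ψ.hom.comp (algebraMap A _) = strHom g W := by
        have : Spec.map ψ ≫ chart I a ≫ toBase I = Spec.map (CommRingCat.ofHom (strHom g W)) := by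
          rw [hψ, IsOpenImmersion.lift_fac_assoc, Category.assoc, hh]
          exact (SpecMap_strHom g ⟨W, hW⟩).symm
        rw [chart_toBase, ← Spec.map_comp] at this
        exact congrArg CommRingCat.Hom.hom (Spec.map_injective this)
      have hspan : E.ideal ⟨W, hW⟩ ≤ Ideal.span {strHom g W (a : A)} := by
        show ((centre I).comap g).ideal _ ≤ _
        rw [ideal_comap_centre, Ideal.map_le_iff_le_comap]
        intro x hx
        refine Ideal.mem_comap.2 (Ideal.mem_span_singleton'.2 ⟨ψ.hom (frac I ⟨x, hx⟩ a), ?_⟩)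
        have h1 := congrArg ψ.hom (frac_mul I ⟨x, hx⟩ a)
        rw [map_mul] at h1
        rwa [show ψ.hom (algebraMap A _ (a : A)) = strHom g W (a : A) from congr($hψφ (a : A)),
          show ψ.hom (algebraMap A _ x) = strHom g W x from congr($hψφ x)] at h1
      obtain ⟨r, hr⟩ := Ideal.mem_span_singleton'.1
        (hspan (OmegaLib.idealSect_mem E ⟨W, hW⟩ ε))
      refine AmpleX.le_locus _ (le_top : W ≤ ⊤) ?_ hwW
      have hεt : ε = r • AModX.res _ (le_top : W ≤ ⊤) t := OmegaLib.idealSect_injective E W (by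
        rw [OmegaLib.idealSect_smul, htr W]; exact hr.symm)
      obtain ⟨c, hc⟩ := hε.exists_coord le_rfl (AModX.res _ (le_top : W ≤ ⊤) t)
      rw [AModX.res_self] at hc
      have h1 : r * c = 1 := hε.coord_unique le_rfl (by
        rw [AModX.res_self, mul_smul, ← hc, ← hεt, one_smul])
      rw [hc]
      exact hε.isUnit_smul (IsUnit.of_mul_eq_one r (by rw [mul_comm]; exact h1))
  obtain ⟨b, hb'⟩ := AmpleX.exists_locus_cl (N := CohB1.tensorPow (ClSub.idealMod E) (0 + 1))
    (show PicF.cl (ClSub.idealMod E) = _ by rw [cl_tensorPow, zero_add, pow_one]) t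
  refine ⟨0, InvX.ofSect b, ?_, ?_⟩
  · rw [AmpleX.genLocus_eq_locus, InvX.one_ofSect, hb', key]; exact hza
  · rw [AmpleX.genLocus_eq_locus, InvX.one_ofSect, hb', key]; exact hO

end Groth.Agent.AmpleFamGen
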