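import Groth.Agent.AmpleX.Basis
import Groth.Agent.Big.AffineSect

/-!
# The canonical section of an effective Cartier divisor
-/

set_option autoImplicit false
set_option linter.style.haveILetI false
set_option backward.isDefEq.respectTransparency false
set_option backward.isDefEq.respectTransparency.types false
set_option maxHeartbeats 1000000

universe u

open CategoryTheory CategoryTheory.Limits AlgebraicGeometry TopologicalSpace
open Groth.Agent.H23.PicMul

noncomputable section

namespace Groth.Agent.AmpleFamGen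

open Groth.Agent

variable {X : Scheme.{u}}

/-- The tautological section of a divisor, with its local equations. -/
theorem exists_equation_section {I : X.IdealSheafData} (hI : BlowUp.IsEffCartierIdeal I)
    {L : X.Modules} (hL : PicF.IsInvertible L) (hLI : ClSub.IsInverseOf L (ClSub.idealMod I)) :
    ∃ s : Γ(L, ⊤), ∀ x : X, ∃ (U : X.affineOpens) (_ : x ∈ U.1) (e : Γ(L, U.1)) (d : Γ(X, U.1)),
      InvX.IsFrame e ∧ AModX.res L (le_top : U.1 ≤ ⊤) s = d • e ∧ I.ideal U = Ideal.span {d} := by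
  open InvX in
  obtain ⟨φ⟩ := hLI
  have hIi := (S8914.result I).2 hI
  let val : ∀ {U : X.Opens}, Γ(L, U) → Γ(ClSub.idealMod I, U) → Γ(X, U) := fun {U} t k => φ.hom.app U (tmul t k)
  have val_smul : ∀ {U : X.Opens} (r r' : Γ(X, U)) (t : Γ(L, U)) (k : Γ(ClSub.idealMod I, U)),
      val (r • t) (r' • k) = r * (r' * val t k) := fun {U} r r' t k => by
    show (show Γ(X, U) from φ.hom.app U (tmul (r • t) (r' • k))) = _
    rw [tmul_smul_left, tmul_smul_right, Scheme.Modules.Hom.app_smul, Scheme.Modules.Hom.app_smul]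
    rfl
  let P : ∀ U : X.Opens, Γ(L, U) → Prop := fun U t => ∀ (V : X.Opens) (h : V ≤ U) (k : Γ(ClSub.idealMod I, V)),
    val (AModX.res L h t) k = OmegaSh.idealSect I V k
  have loc : ∀ x : X, ∃ (U : X.affineOpens) (_ : x ∈ U.1) (t e : Γ(L, U.1)) (h : Γ(ClSub.idealMod I, U.1)),
      IsFrame e ∧ IsFrame h ∧ P U.1 t ∧ IsUnit (val e h) ∧
        ∃ d : Γ(X, U.1), t = d • e ∧ I.ideal U = Ideal.span {d} := fun x => by
    obtain ⟨U₀, hx₀, e₀, h₀, he₀, hh₀⟩ := exists_frame₂ hL hIi x
    obtain ⟨U₁, hU₁, b, hb, hIb⟩ := hI x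
    obtain ⟨U, hU, hxU, hUU⟩ := exists_isAffineOpen_mem_and_subset (show x ∈ U₀ ⊓ U₁.1 from ⟨hx₀, hU₁⟩)
    have h0 : U ≤ U₀ := fun z hz => (hUU hz).1
    have h1 : U ≤ U₁.1 := fun z hz => (hUU hz).2
    let e := AModX.res L h0 e₀
    let h := AModX.res (ClSub.idealMod I) h0 h₀
    have he : IsFrame e := he₀.res _
    have hh : IsFrame h := hh₀.res _
    have hv : IsUnit (val e h) := by
      have hf := (IsFrame.map_iso φ (isFrame_tmul he hh)) U le_rfl
      obtain ⟨r, hr⟩ := hf.2 (show Γ(Coh.structureModule X, U) from (1 : Γ(X, U)))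
      rw [AModX.res_self] at hr
      exact IsUnit.of_mul_eq_one_right r hr
    obtain ⟨v, hv'⟩ := hv
    have hspan : I.ideal ⟨U, hU⟩ = Ideal.span {OmegaSh.idealSect I U h} := by
      refine le_antisymm (fun g hg => ?_)
        ((Ideal.span_singleton_le_iff_mem _).2 (OmegaLib.idealSect_mem I ⟨U, hU⟩ h))
      obtain ⟨c, rfl⟩ := OmegaLib.exists_of_mem I ⟨U, hU⟩ g hg
      obtain ⟨r, rfl⟩ := hh.exists_coord le_rfl c
      rw [OmegaLib.idealSect_smul, AModX.res_self]
      exact Ideal.mem_span_singleton'.2 ⟨r, rfl⟩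
    refine ⟨⟨U, hU⟩, hxU, ((↑v⁻¹ : Γ(X, U)) * OmegaSh.idealSect I U h) • e, e, h, he, hh, fun V hV k => ?_,
      ⟨v, hv'⟩, _, rfl, ?_⟩
    · obtain ⟨r, rfl⟩ := hh.exists_coord hV k
      have hmap : OmegaSh.idealSect I V (AModX.res (ClSub.idealMod I) hV h) = AModX.resR hV (OmegaSh.idealSect I U h) :=
        OmegaLib.idealSect_map I hV h
      rw [AModX.res_smul, val_smul, OmegaLib.idealSect_smul, hmap, map_mul,
        show val (AModX.res L hV e) (AModX.res (ClSub.idealMod I) hV h) = AModX.resR hV (val e h) by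
          show φ.hom.app V _ = _
          rw [← res_tmul]
          exact AModX.app_res φ.hom hV _, ← hv']
      have h1 : AModX.resR hV (↑v⁻¹ : Γ(X, U)) * AModX.resR hV (↑v : Γ(X, U)) = 1 := by
        rw [← map_mul, Units.inv_mul, map_one]
      linear_combination (r * AModX.resR hV (OmegaSh.idealSect I U h)) * h1
    · rw [hspan, Ideal.span_singleton_mul_left_unit (Units.isUnit _)]
  choose U hxU t e h he hh ht hv d htd hspan using loc
  obtain ⟨s, hs, -⟩ := AModX.existsUnique_glue (M := L) (V := ⊤) (fun x => (U x).1) (fun _ => le_top)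
    (fun x _ => ⟨x, hxU x⟩) t fun x y => by
      have hf : IsFrame (AModX.res L (inf_le_left : (U x).1 ⊓ (U y).1 ≤ (U x).1) (e x)) := (he x).res _
      obtain ⟨a, ha⟩ := hf.exists_coord le_rfl (AModX.res L (inf_le_left : (U x).1 ⊓ (U y).1 ≤ (U x).1) (t x))
      obtain ⟨b, hb⟩ := hf.exists_coord le_rfl (AModX.res L (inf_le_right : (U x).1 ⊓ (U y).1 ≤ (U y).1) (t y))
      rw [AModX.res_self] at ha hb
      have h1 := ht x _ inf_le_left (AModX.res (ClSub.idealMod I) (inf_le_left : (U x).1 ⊓ (U y).1 ≤ (U x).1) (h x))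
      have h2 := ht y _ inf_le_right (AModX.res (ClSub.idealMod I) (inf_le_left : (U x).1 ⊓ (U y).1 ≤ (U x).1) (h x))
      have e1 : ∀ c : Γ(X, (U x).1 ⊓ (U y).1), val (c • AModX.res L (inf_le_left : (U x).1 ⊓ (U y).1 ≤ (U x).1) (e x))
          (AModX.res (ClSub.idealMod I) (inf_le_left : (U x).1 ⊓ (U y).1 ≤ (U x).1) (h x)) =
          c * AModX.resR inf_le_left (val (e x) (h x)) := fun c => by
        have := val_smul c 1 (AModX.res L (inf_le_left : (U x).1 ⊓ (U y).1 ≤ (U x).1) (e x))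
          (AModX.res (ClSub.idealMod I) (inf_le_left : (U x).1 ⊓ (U y).1 ≤ (U x).1) (h x))
        rw [one_smul, _root_.one_mul] at this
        rw [this]
        congr 1
        show φ.hom.app _ _ = _
        rw [← res_tmul]
        exact AModX.app_res φ.hom _ _
      rw [ha, e1] at h1
      rw [hb, e1] at h2
      rw [ha, hb, ((hv x).map (AModX.resR inf_le_left)).mul_left_injective (h1.trans h2.symm)]
  exact ⟨s, fun x => ⟨U x, hxU x, e x, d x, he x, (hs x).trans (htd x), hspan x⟩⟩


/-- An effective Cartier divisor is the zero locus of a section of an invertible module. -/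
theorem exists_section_locus_eq {I : X.IdealSheafData} (hI : BlowUp.IsEffCartierIdeal I) :
    ∃ (L : X.Modules) (s : Γ(L, ⊤)), PicF.IsInvertible L ∧ AmpleX.locus s = I.support.compl := by
  obtain ⟨L, hL, ⟨φ⟩⟩ := H23.PicInv.exists_inverse ((S8914.result I).2 hI)
  obtain ⟨c⟩ := H23.PicMul.comm L (ClSub.idealMod I)
  obtain ⟨s, hs⟩ := exists_equation_section hI hL ⟨c ≪≫ φ⟩
  refine ⟨L, s, hL, TopologicalSpace.Opens.ext (Set.ext fun x => ?_)⟩
  obtain ⟨U, hx, e, d, he, hd, hspan⟩ := hs x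
  have hb := AmpleX.locus_inf s le_top he hd
  show x ∈ AmpleX.locus s ↔ x ∉ (I.support : Set X)
  rw [SetLike.mem_coe, Scheme.IdealSheafData.mem_support_iff_of_mem hx, hspan, Scheme.zeroLocus_span,
    Scheme.zeroLocus_singleton]
  show _ ↔ ¬ x ∉ (X.basicOpen d : Set X)
  rw [← hb, not_not]
  exact ⟨fun h => ⟨h, hx⟩, fun h => h.1⟩

end Groth.Agent.AmpleFamGen
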