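import Groth.Agent.AmpleX.FiniteSet
import Groth.Agent.AmpleX.Separated
import Mathlib.Topology.KrullDimension
import Mathlib.Order.KrullDimension
import Mathlib.AlgebraicGeometry.Noetherian

/-!
# Schemes with an ample module are covered by `dim + 1` affine opens
-/

universe u

open CategoryTheory AlgebraicGeometry TopologicalSpace

set_option backward.isDefEq.respectTransparency false
set_option linter.style.haveILetI false

namespace Groth.Agent.AmpleFamGen

open Groth.Agent

variable {X : Scheme.{u}}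

/-- The closure of a point. -/
def ptClosure (x : X) : IrreducibleCloseds X :=
  ⟨closure {x}, isIrreducible_singleton.closure, isClosed_closure⟩

theorem exists_affine_cover_dim [NoetherianSpace X] {L : X.Modules} (hL : CohB1.IsAmple L) (d : ℕ)
    (hd : topologicalKrullDim X ≤ d) :
    ∃ U : Fin (d + 1) → X.Opens, (∀ i, IsAffineOpen (U i)) ∧ ⨆ i, U i = ⊤ := by
  haveI := AmpleX.isSeparated_of_isAmple hL
  let h : X → ℕ∞ := fun x => Order.height (ptClosure x)
  have hle : ∀ x, h x ≤ (d : ℕ∞) := fun x => by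
    have := (Order.height_le_krullDim (ptClosure x)).trans hd
    exact WithBot.coe_le_coe.1 this
  have key : ∀ k : ℕ, ∃ U : Fin k → X.Opens, (∀ i, IsAffineOpen (U i)) ∧
      ∀ x, (∀ i, x ∉ U i) → h x + (k : ℕ∞) ≤ (d : ℕ∞) := by
    intro k
    induction k with
    | zero => exact ⟨fun i => i.elim0, fun i => i.elim0, fun x _ => by simpa using hle x⟩
    | succ k ih =>
      obtain ⟨U, hU, hUd⟩ := ih
      let Z : Set X := {x | ∀ i, x ∉ U i}
      have hZc : IsClosed Z := by
        have : Z = ⋂ i, ((U i : Set X))ᶜ := by ext; simp [Z]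
        rw [this]
        exact isClosed_iInter fun i => (U i).2.isClosed_compl
      obtain ⟨S, hSf, hSc, hSi, hSU⟩ := NoetherianSpace.exists_finite_set_isClosed_irreducible hZc
      have : ∀ C : S, ∃ x, IsGenericPoint x (C.1 : Set X) := fun C =>
        QuasiSober.sober (hSi C.1 C.2) (hSc C.1 C.2)
      choose η hη using this
      haveI := hSf.to_subtype
      obtain ⟨n, s, hsG, -, hsA⟩ := AmpleX.exists_finite_nhd hL (Set.finite_range η) (U := ⊤)
        (Set.subset_univ _)
      refine ⟨Fin.snoc U (CohB1.genLocus _ s), fun i => ?_, fun x hx => ?_⟩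
      · induction i using Fin.lastCases with
        | last => rw [Fin.snoc_last]; exact hsA
        | cast i => rw [Fin.snoc_castSucc]; exact hU i
      have hxG : x ∉ CohB1.genLocus _ s := by simpa using hx (Fin.last k)
      have hxZ : x ∈ Z := fun i => by simpa using hx i.castSucc
      rw [hSU] at hxZ
      obtain ⟨C, hC, hxC⟩ := hxZ
      have hηZ : η ⟨C, hC⟩ ∈ Z := by
        rw [hSU]; exact ⟨C, hC, (hη ⟨C, hC⟩).mem⟩
      have hlt : ptClosure x < ptClosure (η ⟨C, hC⟩) := by
        refine lt_of_le_of_ne ?_ fun e => hxG ?_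
        · show closure {x} ⊆ closure {η ⟨C, hC⟩}
          rw [(hη ⟨C, hC⟩).def]
          exact closure_minimal (Set.singleton_subset_iff.2 hxC) (hSc C hC)
        · have e' : closure {x} = closure {η ⟨C, hC⟩} := congrArg (fun D : IrreducibleCloseds X => (D : Set X)) e
          rw [(inseparable_iff_closure_eq.2 e').eq]
          exact hsG (Set.mem_range_self _)
      have h1 : h x + 1 ≤ h (η ⟨C, hC⟩) := Order.height_add_one_le hlt
      calc h x + ((k + 1 : ℕ) : ℕ∞) = h x + 1 + (k : ℕ∞) := by push_cast; ring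
        _ ≤ h (η ⟨C, hC⟩) + (k : ℕ∞) := add_le_add h1 le_rfl
        _ ≤ (d : ℕ∞) := hUd _ hηZ
  obtain ⟨U, hU, hUd⟩ := key (d + 1)
  refine ⟨U, hU, top_le_iff.1 fun x _ => ?_⟩
  rw [Opens.mem_iSup]
  by_contra hx
  have h1 := hUd x fun i hi => hx ⟨i, hi⟩
  have h2 : ((d + 1 : ℕ) : ℕ∞) ≤ (d : ℕ∞) := le_trans le_add_self h1
  exact absurd (Nat.cast_le.1 h2) (by omega)

end Groth.Agent.AmpleFamGen
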