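import Groth.Agent.S1500
import Groth.Agent.S1499
import Groth.Agent.S2336
import Groth.Agent.Lib.EffCompl
import Groth.Agent.PicGlue.AmpleDimOne
import Groth.Agent.MorLib.Birat
import Groth.Agent.AmpleFamGen.Basic
import Groth.Prelude.Def_PerfAux

/-!
# Factorial Noetherian schemes with affine diagonal are divisorial
-/

universe u

open CategoryTheory CategoryTheory.Limits AlgebraicGeometry TopologicalSpace

set_option backward.isDefEq.respectTransparency false
set_option backward.isDefEq.respectTransparency.types false
set_option linter.style.haveILetI false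

namespace Groth.Agent.AmpleFamGen

open Groth.Agent

/-- A Noetherian scheme with affine diagonal and factorial local rings has an ample family. -/
theorem hasAmpleFamily_of_factorial (X : Scheme.{u}) [IsNoetherian X]
    (hΔ : ∀ V W : X.Opens, IsAffineOpen V → IsAffineOpen W → IsAffineOpen (V ⊓ W))
    (hufd : ∀ x : X, IsDomain (X.presheaf.stalk x) ∧ UniqueFactorizationMonoid (X.presheaf.stalk x)) :
    MoreMor.HasAmpleFamily X := by
  choose U hU hxU hgen using fun x : X => PicGlue.exists_affine_dense x
  choose D hD hsupp using fun x : X =>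
    EffCompl.exists_effCartier_compl X hΔ (U x) (hU x) (MorLib.Birat.dense_of_genericPoints (hgen x)) fun y _ => hufd y
  obtain ⟨S, hS⟩ := isCompact_univ.elim_finite_subcover (fun x => (U x : Set X)) (fun x => (U x).2)
    (fun x _ => Set.mem_iUnion.2 ⟨x, hxU x⟩)
  let e := (Fintype.equivFin S).symm
  have hc : ∀ x, (D x).support.compl = U x := fun x => Opens.ext <| by
    show ((D x).support : Set X)ᶜ = _
    rw [hsupp, compl_compl]
  refine S1500.result (fun i => D (e i).1) (fun i => hD _) ?_ (fun _ => Coh.structureModule X)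
    (fun _ => InvX.isInvertible_structureModule) fun i => ?_
  · refine Set.eq_empty_iff_forall_notMem.2 fun y hy => ?_
    obtain ⟨x, hx, hyx⟩ := Set.mem_iUnion₂.1 (hS (Set.mem_univ y))
    obtain ⟨i, hi⟩ := e.surjective ⟨x, hx⟩
    have h := Set.mem_iInter.1 hy i
    rw [hsupp, hi] at h
    exact h hyx
  · have key : ∀ V : X.Opens, IsAffineOpen V → CohB1.IsAmple ((Coh.structureModule X).restrict V.ι) := fun V hV => by
      haveI : IsAffine V.toScheme := hV
      exact AmpleX.isAmple_of_iso (Scheme.Modules.restrictUnitIso V.ι).symm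
        (AmpleX.isAmple_of_isQuasiAffine InvX.isInvertible_structureModule)
    exact key _ (by rw [hc]; exact hU _)

/-- A scheme with an ample family has the resolution property. -/
theorem hasResolutionProperty_of_ampleFamily {X : Scheme.{u}} (h : MoreMor.HasAmpleFamily X) :
    PerfAux.HasResolutionProperty X := by
  haveI := h.1
  haveI := S1499.quasiSeparatedSpace_of_ampleFamily h
  intro F hF hft
  choose L n s hL hn hx hA using h.2
  have key : ∀ (x : X) (a b : ℕ) (e : a = b) (t : Coh.structureModule X ⟶ CohB1.tensorPow (L x) a),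
      x ∈ CohB1.genLocus _ t → IsAffineOpen (CohB1.genLocus _ t) →
      ∃ t' : Coh.structureModule X ⟶ CohB1.tensorPow (L x) b,
        x ∈ CohB1.genLocus _ t' ∧ IsAffineOpen (CohB1.genLocus _ t') := by
    rintro x a _ rfl t h1 h2; exact ⟨t, h1, h2⟩
  obtain ⟨r, N, π, hπ, hN⟩ := exists_epi_negPowers L hL (fun x => ⟨x, n x - 1,
    key x _ _ (Nat.sub_add_cancel (hn x)).symm (s x) (hx x) (hA x)⟩) hF hft
  exact ⟨_, π, isFinLocFree_biproduct N fun i => (hN i).1, hπ⟩

end Groth.Agent.AmpleFamGen
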