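import Groth.Agent.AmpleFamGen.Affine
import Groth.Agent.AmpleFamGen.ExtendOn
import Groth.Agent.AmpleX.Rel
import Groth.Agent.KFlatLib.Perfect.Tensor

/-!
# The resolution property and relatively ample modules
-/

universe u

open CategoryTheory CategoryTheory.Limits AlgebraicGeometry TopologicalSpace Opposite

set_option backward.isDefEq.respectTransparency false
set_option backward.isDefEq.respectTransparency.types false
set_option linter.style.haveILetI false

attribute [local instance] CategoryTheory.Abelian.hasFiniteBiproducts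

open Groth.Agent.H23.PicMul

namespace Groth.Agent.AmpleFamGen

open Groth.Agent

variable {X Y : Scheme.{u}}

theorem hasResolutionProperty_of_relAmple (f : X ⟶ Y) [CompactSpace Y] [QuasiSeparatedSpace Y]
    (hY : PerfAux.HasResolutionProperty Y) (L : X.Modules) (hL : RelAmple.IsRelAmple f L) :
    PerfAux.HasResolutionProperty X := by
  classical
  intro F hF hft
  haveI := hL.1
  haveI : IsSeparated f := AmpleX.isSeparated_of_ampleOn fun x => AmpleX.ampleOn_of_isRelAmple hL (f x)
  haveI : QuasiSeparatedSpace X := quasiSeparatedSpace_of_quasiSeparated f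
  haveI : CompactSpace X := QuasiCompact.compactSpace_of_compactSpace f
  have hi := AmpleX.isInvertible_of_isRelAmple hL
  let adj := Scheme.Modules.pullbackPushforwardAdjunction f
  have hstep : ∀ x : X, ∃ (W : X.Opens) (E : X.Modules) (ψ : E ⟶ F),
      x ∈ W ∧ FlatMod.IsFinLocFree E ∧ ∀ p ∈ W, Epi ((DerSch.stalkFunctor X p).map ψ) := fun x => by
    obtain ⟨V, hV, hxV, -⟩ := exists_isAffineOpen_mem_and_subset (x := f x) (U := (⊤ : Y.Opens)) trivial
    obtain ⟨m, -, a, hxa, -, hW⟩ := AmpleX.exists_sections_of_isRelAmple hL hV hxV (U := ⊤) trivial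
    let P := CohB1.tensorPow L m
    have hP : PicF.IsInvertible P := InvX.isInvertible_tensorPow hi m
    obtain ⟨J, t, ht⟩ := Submodule.fg_iff_exists_fin_generating_family.1 (QCoh.finite_of_isFT hF hft hW).fg_top
    choose n₀ hn₀ using fun j => exists_extend_on hF hP (f.isCompact_preimage hV.isCompact) a (t j)
    let n := Finset.univ.sup n₀
    choose T hT using fun j => hn₀ j n (Finset.le_sup (Finset.mem_univ j))
    have hPn := InvX.isInvertible_tensorPow hP n
    let Fn := CohB1.tensorMod F (CohB1.tensorPow P n)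
    have hFn : Coh.IsQCoh Fn := KFlatLib.isQCoh_tensor hF (ProjUPX.isQCoh_of_isInvertible hPn)
    obtain ⟨E, φ, hE, hφ⟩ := exists_flf_hit hY (QCoh.isQCoh_pushforward f hFn) hV
      (T := Set.range fun j => (show Γ((Scheme.Modules.pushforward f).obj Fn, V) from T j)) (Set.finite_range _)
    obtain ⟨D, hD, ⟨e⟩⟩ := H23.PicInv.exists_inverse hPn
    obtain ⟨c'⟩ := H23.PicMul.comm D Fn
    obtain ⟨a'⟩ := H23.PicMul.assoc F (CohB1.tensorPow P n) D
    obtain ⟨v⟩ := H23.PicMul.unit F
    let ε : (DCoh.tensorBi.obj D).obj Fn ≅ F := c' ≪≫ a' ≪≫ (DCoh.tensorBi.obj F).mapIso e ≪≫ v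
    let ψ₀ := (adj.homEquiv E Fn).symm φ
    refine ⟨AmpleX.locus a, (DCoh.tensorBi.obj D).obj ((Scheme.Modules.pullback f).obj E),
      (DCoh.tensorBi.obj D).map ψ₀ ≫ ε.hom, hxa, KFlatLib.isFinLocFree_tensor
        (H23.PullPush.isFinLocFree_of_isInvertible hD) (KFlatLib.isFinLocFree_pullback f hE), fun p hp => ?_⟩
    have hspan : Submodule.span (X.presheaf.stalk p)
        (Set.range fun j => F.presheaf.germ (AmpleX.locus a) p hp (t j)) = ⊤ := by
      letI := QCoh.stalkAlg (X := X) hp
      letI := QCoh.stalkModule F hp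
      haveI := QCoh.isScalarTower_stalk F hp
      haveI := QCoh.isLocalization_stalk' hW hp
      haveI := QCoh.isLocalizedModule_germLin hF hW hp
      have h1 : Submodule.localized' (X.presheaf.stalk p) (hW.primeIdealOf ⟨p, hp⟩).asIdeal.primeCompl
          (QCoh.germLin F hp) (Submodule.span Γ(X, AmpleX.locus a) (Set.range t)) = ⊤ := by
        rw [ht, Submodule.localized'_top]
      rw [Submodule.localized'_span, ← Set.range_comp] at h1
      exact h1
    have h2 := AmpleX.span_germ_tmul_eq_top hp t hspan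
      (AmpleX.isFrame_powElt (AmpleX.isFrame_res_locus a) n)
    have hpV : p ∈ f ⁻¹ᵁ V := AmpleX.locus_le a hp
    haveI : Epi ((DerSch.stalkFunctor X p).map ψ₀) := by
      rw [ModuleCat.epi_iff_range_eq_top, eq_top_iff, ← h2, Submodule.span_le]
      rintro _ ⟨j, rfl⟩
      obtain ⟨z, hz⟩ := hφ _ ⟨j, rfl⟩
      refine ⟨((Scheme.Modules.pullback f).obj E).presheaf.germ (f ⁻¹ᵁ V) p hpV (InvX.pullElt f z), ?_⟩
      refine (DerSch.stalkFunctor_map_germ p _ (f ⁻¹ᵁ V) hpV _).trans ?_
      have h := adj.homEquiv_unit (f := ψ₀)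
      rw [Equiv.apply_symm_apply] at h
      refine (congrArg (Fn.presheaf.germ (f ⁻¹ᵁ V) p hpV)
        (((congrArg (fun χ => χ.app V z) h).symm).trans hz)).trans ?_
      exact (InvX.germ_res' (AmpleX.locus_le a) hp (T j)).symm.trans (congrArg _ (hT j))
    haveI := epi_stalk_tensor D ψ₀ p
    rw [Functor.map_comp]
    exact epi_comp _ _
  choose W E ψ hxW hE hepi using hstep
  obtain ⟨S, hS⟩ := isCompact_univ.elim_finite_subcover (fun y => (W y : Set X))
    (fun y => (W y).2) (fun y _ => Set.mem_iUnion.2 ⟨y, hxW y⟩)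
  let eI := (Fintype.equivFin S).symm
  let N : Fin (Fintype.card S) → X.Modules := fun i => E (eI i)
  let p : ⨁ N ⟶ F := biproduct.desc fun i => ψ (eI i)
  refine ⟨⨁ N, p, isFinLocFree_biproduct' N fun i => hE _, epi_of_stalk p fun x => ?_⟩
  obtain ⟨y, hy, hxy⟩ := Set.mem_iUnion₂.1 (hS (Set.mem_univ x))
  obtain ⟨i, hi⟩ := eI.surjective ⟨y, hy⟩
  haveI : Epi ((DerSch.stalkFunctor X x).map (ψ (eI i))) := hepi _ x (by rw [hi]; exact hxy)
  haveI : Epi ((DerSch.stalkFunctor X x).map (biproduct.ι N i) ≫ (DerSch.stalkFunctor X x).map p) := by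
    rw [← Functor.map_comp, biproduct.ι_desc]; infer_instance
  exact epi_of_epi ((DerSch.stalkFunctor X x).map (biproduct.ι N i)) _

end Groth.Agent.AmpleFamGen
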