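import Groth.Agent.AmpleFamGen.Affine
import Groth.Agent.InvX.Tensor
import Groth.Agent.QCoh.ArtinRees
import Groth.Agent.QCoh.DevissageIdeal
import Groth.Agent.QCoh.ExtendFT
import Groth.Agent.QCoh.DevissageSum
import Mathlib.AlgebraicGeometry.FunctionField

/-!
# Torsion-free coherent covers on a Noetherian integral scheme
-/

universe u

open CategoryTheory CategoryTheory.Limits AlgebraicGeometry TopologicalSpace Opposite

set_option backward.isDefEq.respectTransparency false
set_option backward.isDefEq.respectTransparency.types false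
set_option linter.style.haveILetI false

attribute [local instance] CategoryTheory.Abelian.hasFiniteBiproducts

namespace Groth.Agent.AmpleFamGen

open Groth.Agent

variable {X : Scheme.{u}}

/-- A module whose sections on each open are torsion-free in the sense of germs. -/
def TorsFree (K : X.Modules) : Prop :=
  ∀ y : X, NoZeroSMulDivisors ↥(X.presheaf.stalk y) ↥(K.presheaf.stalk y)

theorem torsFree_biproduct [IsIntegral X] {r : ℕ} (N : Fin r → X.Modules) (h : ∀ i, TorsFree (N i)) :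
    TorsFree (⨁ N) := fun y => by
  classical
  let S := DerSch.stalkFunctor X y
  refine ⟨fun {a m} ham => ?_⟩
  by_cases ha : a = 0
  · exact Or.inl ha
  refine Or.inr ?_
  have hp : ∀ i, S.map (biproduct.π N i) m = 0 := fun i => by
    have h1 : a • (S.map (biproduct.π N i) m) = 0 := by
      refine ((S.map (biproduct.π N i)).hom.map_smul a m).symm.trans ?_
      exact (congrArg (S.map (biproduct.π N i)) ham).trans (map_zero _)
    exact ((h i y).eq_zero_or_eq_zero_of_smul_eq_zero h1).resolve_left ha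
  have ht : S.map (∑ i, biproduct.π N i ≫ biproduct.ι N i) = 𝟙 _ := by
    rw [biproduct.total, S.map_id]
  rw [Functor.map_sum] at ht
  have := congrArg (fun φ => φ.hom m) ht
  simp only [ModuleCat.hom_sum, LinearMap.coe_sum, Finset.sum_apply, ModuleCat.id_apply] at this
  rw [← this]
  refine Finset.sum_eq_zero fun i _ => ?_
  rw [S.map_comp]
  show S.map (biproduct.ι N i) (S.map (biproduct.π N i) m) = 0
  rw [hp i, map_zero]

/-- A submodule of the structure sheaf of an open subscheme is torsion-free. -/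
theorem torsFree_of_mono [IsIntegral X] {U : X.Opens} {K : X.Modules}
    (φ : K ⟶ (Scheme.Modules.pushforward U.ι).obj (Coh.structureModule U.toScheme)) [Mono φ] :
    TorsFree K := fun y => by
  refine ⟨fun {a m} ham => ?_⟩
  obtain ⟨V₁, hy₁, r, rfl⟩ := TopCat.Presheaf.germ_exist X.presheaf a
  obtain ⟨V₂, hy₂, v, rfl⟩ := TopCat.Presheaf.germ_exist K.presheaf m
  obtain ⟨W₀, hW₀, hyW₀, hW₀le⟩ := exists_isAffineOpen_mem_and_subset (show y ∈ V₁ ⊓ V₂ from ⟨hy₁, hy₂⟩)
  have h1 : W₀ ≤ V₁ := fun z hz => (hW₀le hz).1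
  have h2 : W₀ ≤ V₂ := fun z hz => (hW₀le hz).2
  rw [← InvX.germ_res' h2 hyW₀ v, ← X.presheaf.germ_res_apply (homOfLE h1) y hyW₀ r] at ham ⊢
  rw [← QCoh.germ_smul'] at ham
  obtain ⟨W₁, hy1, i1, i1', hW1⟩ := K.presheaf.germ_eq y hyW₀ hyW₀ _ 0 (ham.trans (map_zero _).symm)
  rw [map_zero] at hW1
  let rW : Γ(X, W₁) := X.presheaf.map (i1 ≫ homOfLE h1).op r
  let vW : Γ(K, W₁) := AModX.res _ (leOfHom i1) (AModX.res _ h2 v)
  have hprod : rW • vW = 0 := by
    refine Eq.trans ?_ hW1
    show rW • vW = AModX.res _ (leOfHom i1) _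
    rw [AModX.res_smul]
    congr 1
    show X.presheaf.map (i1 ≫ homOfLE h1).op r = _
    rw [op_comp, X.presheaf.map_comp]
    rfl
  rw [← X.presheaf.germ_res_apply i1 y hy1, ← X.presheaf.map_comp_apply, ← InvX.germ_res' (leOfHom i1) hy1]
  have h0 : (U.ι.app W₁).hom rW * (show Γ(U.toScheme, U.ι ⁻¹ᵁ W₁) from (φ).app W₁ vW) = 0 := by
    have := congrArg ((φ).app W₁) hprod
    rw [Scheme.Modules.Hom.app_smul, map_zero, QCoh.pushforward_smul] at this
    exact this
  by_cases hne : Nonempty (U.ι ⁻¹ᵁ W₁ : U.toScheme.Opens)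
  · haveI := hne
    haveI : Nonempty U := ⟨hne.some.1⟩
    haveI : IsDomain Γ(U.toScheme, U.ι ⁻¹ᵁ W₁) := inferInstance
    rcases mul_eq_zero.1 h0 with h0 | h0
    · left
      obtain ⟨⟨z, hz⟩⟩ := hne
      haveI : Nonempty W₁ := ⟨⟨y, hy1⟩⟩
      haveI : Nonempty (W₁ ⊓ U : X.Opens) := ⟨⟨U.ι z, hz, z.2⟩⟩
      have h5 : AModX.resR (inf_le_left : W₁ ⊓ U ≤ W₁) rW = 0 := by
        haveI : IsIso (U.ι.app (W₁ ⊓ U)) :=
          U.ι.isIso_app _ (by rw [Scheme.Opens.opensRange_ι]; exact inf_le_right)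
        refine (ConcreteCategory.bijective_of_isIso (U.ι.app (W₁ ⊓ U))).1 (Eq.trans ?_ (map_zero _).symm)
        have := congrArg (U.toScheme.presheaf.map ((Opens.map U.ι.base).map (homOfLE (inf_le_left : W₁ ⊓ U ≤ W₁))).op) h0
        rw [map_zero, ← CategoryTheory.comp_apply] at this
        erw [← Scheme.Hom.naturality U.ι (homOfLE (inf_le_left : W₁ ⊓ U ≤ W₁)).op] at this
        exact this
      have h6 : rW = 0 := map_injective_of_isIntegral X (homOfLE (inf_le_left : W₁ ⊓ U ≤ W₁)) (h5.trans (map_zero _).symm)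
      exact (congrArg _ h6).trans (map_zero _)
    · right
      exact (congrArg _ (QCoh.app_injective (φ) W₁ (h0.trans (map_zero _).symm))).trans (map_zero _)
  · right
    have hbot : U.ι ⁻¹ᵁ W₁ = ⊥ := Opens.ext (Set.eq_empty_of_forall_notMem fun z hz => hne ⟨⟨z, hz⟩⟩)
    have hsub : Subsingleton Γ(U.toScheme, U.ι ⁻¹ᵁ W₁) := by rw [hbot]; infer_instance
    haveI : Subsingleton Γ((Scheme.Modules.pushforward U.ι).obj (Coh.structureModule U.toScheme), W₁) := hsub
    exact (congrArg _ (QCoh.app_injective (φ) W₁ (Subsingleton.elim _ _))).trans (map_zero _)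

/-- An ideal sheaf is trivial on an affine open missing its support. -/
theorem ideal_eq_top_of_disjoint (J : X.IdealSheafData) {W : X.Opens} (hW : IsAffineOpen W)
    (h : ∀ z ∈ W, z ∉ (J.support : Set X)) : J.ideal ⟨W, hW⟩ = ⊤ := by
  by_contra h1
  obtain ⟨m, hm, hle⟩ := Ideal.exists_le_maximal _ h1
  have hzW : hW.fromSpec ⟨m, hm.isPrime⟩ ∈ W := hW.range_fromSpec.le (Set.mem_range_self _)
  refine h _ hzW ?_
  rw [SetLike.mem_coe, Scheme.IdealSheafData.mem_support_iff_of_mem (U := ⟨W, hW⟩) hzW,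
    Scheme.mem_zeroLocus_iff]
  intro f hf hzf
  exact ((QCoh.mem_basicOpen_fromSpec hW ⟨m, hm.isPrime⟩ f).1 hzf) (hle hf)

/-- The submodule generated by a section with unit first coordinate meets the kernel in zero. -/
theorem eq_zero_of_proj {U : X.Opens} {G : X.Modules}
    (π : G ⟶ (Scheme.Modules.pushforward U.ι).obj (Coh.structureModule U.toScheme)) (e : Γ(G, U))
    (he : π.app U e = (show Γ(U.toScheme, U.ι ⁻¹ᵁ U) from 1))
    {V : X.Opens} (hV : V ≤ U) (g : Γ(G, V)) (hg : g ∈ (QCoh.spanSub {e}).mem V) (h0 : π.app V g = 0) :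
    g = 0 := by
  refine QCoh.eq_zero_of_locally V _ fun x hx => ?_
  obtain ⟨P, hPV, hPU, hxP, hP⟩ := hg x hx (hV hx)
  refine ⟨P, homOfLE hPV, hxP, ?_⟩
  show QCoh.rs G hPV g = 0
  rw [Set.image_singleton] at hP
  obtain ⟨r, hr⟩ := Submodule.mem_span_singleton.1 hP
  have h1 : π.app P (QCoh.rs G hPV g) = 0 := by
    refine (QCoh.map_app_comm π (homOfLE hPV) g).trans ?_
    exact (congrArg _ h0).trans (map_zero _)
  rw [← hr, Scheme.Modules.Hom.app_smul] at h1
  have h2 : π.app P (QCoh.rs G hPU e) = (show Γ(U.toScheme, U.ι ⁻¹ᵁ P) from 1) := by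
    refine (QCoh.map_app_comm π (homOfLE hPU) e).trans ?_
    rw [he]
    exact map_one (U.toScheme.presheaf.map _).hom
  have h5 := (congrArg (r • ·) h2).symm.trans h1
  have h3 : (U.ι.app P).hom r = 0 := by
    have h4 : (U.ι.app P).hom r * (1 : Γ(U.toScheme, U.ι ⁻¹ᵁ P)) = 0 := by
      refine Eq.trans ?_ h5
      exact (QCoh.pushforward_smul (M := Coh.structureModule U.toScheme) U.ι P r _).symm
    rwa [mul_one] at h4
  haveI : IsIso (U.ι.app P) := U.ι.isIso_app P (by rw [Scheme.Opens.opensRange_ι]; exact hPU)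
  rw [← hr, (ConcreteCategory.bijective_of_isIso (U.ι.app P)).1 (h3.trans (map_zero _).symm), zero_smul]

/-- A quasi-coherent module in which any two sections can be paired. -/
theorem exists_sum {A F : X.Modules} (hA : Coh.IsQCoh A) (hF : Coh.IsQCoh F) :
    ∃ (G : X.Modules) (π₁ : G ⟶ A) (π₂ : G ⟶ F), Coh.IsQCoh G ∧
      ∀ (U : X.Opens) (a : Γ(A, U)) (b : Γ(F, U)), ∃ e : Γ(G, U), π₁.app U e = a ∧ π₂.app U e = b := by
  classical
  let T : ULift.{u} WalkingPair → X.Modules := fun b => WalkingPair.casesOn b.down A F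
  let bl : ULift.{u} WalkingPair := ⟨WalkingPair.left⟩
  let br : ULift.{u} WalkingPair := ⟨WalkingPair.right⟩
  refine ⟨⨁ T, biproduct.π T bl, biproduct.π T br, QCoh.isQCoh_biproduct T fun b => ?_, fun U a b =>
    ⟨(biproduct.ι T bl).app U a + (biproduct.ι T br).app U b, ?_, ?_⟩⟩
  · rcases b with ⟨_ | _⟩
    exacts [hA, hF]
  · show _ = a
    rw [map_add]
    show (biproduct.ι T bl ≫ biproduct.π T bl).app U a + (biproduct.ι T br ≫ biproduct.π T bl).app U b = a
    rw [biproduct.ι_π_self, biproduct.ι_π_ne T (by simp [bl, br])]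
    show a + 0 = a
    rw [add_zero]
  · show _ = b
    rw [map_add]
    show (biproduct.ι T bl ≫ biproduct.π T br).app U a + (biproduct.ι T br ≫ biproduct.π T br).app U b = b
    rw [biproduct.ι_π_self, biproduct.ι_π_ne T (by simp [bl, br])]
    show (0 : Γ(F, U)) + b = b
    rw [zero_add]

/-- The kernel of restriction to a closed subscheme is coherent. -/
theorem isCoh_kernel_unit [IsNoetherian X] (J : X.IdealSheafData) {M : X.Modules} (hM : Coh.IsCoh M) :
    Coh.IsCoh (kernel ((Scheme.Modules.pullbackPushforwardAdjunction J.subschemeι).unit.app M)) := by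
  have hP : Coh.IsQCoh ((Scheme.Modules.pushforward J.subschemeι).obj
      ((Scheme.Modules.pullback J.subschemeι).obj M)) :=
    QCoh.isQCoh_pushforward J.subschemeι (QCoh.isQCoh_pullback J.subschemeι hM.1)
  exact QCoh.isCoh_of_mono (kernel.ι _) hM (QCoh.isQCoh_kernel hM.1 hP _)

set_option maxHeartbeats 1000000 in
/-- A section over an affine open of a coherent module on a Noetherian integral scheme is hit by a
torsion-free coherent module near every point of that open. -/
theorem exists_torsFree_hit [IsNoetherian X] [IsIntegral X] {F : X.Modules} (hF : Coh.IsCoh F)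
    {U : X.Opens} (hU : IsAffineOpen U) (s : Γ(F, U)) :
    ∃ (K : X.Modules) (φ : K ⟶ F), Coh.IsCoh K ∧ TorsFree K ∧
      ∀ x (hx : x ∈ U), F.presheaf.germ U x hx s ∈ Set.range ((DerSch.stalkFunctor X x).map φ) := by
  classical
  let j := U.ι
  haveI : IsAffine U.toScheme := hU
  let A : X.Modules := (Scheme.Modules.pushforward j).obj (Coh.structureModule U.toScheme)
  have hA : Coh.IsQCoh A := QCoh.isQCoh_pushforward j QCoh.isCoh_structureModule'.1
  obtain ⟨G, π₁, π₂, hG, hpair⟩ := exists_sum hA hF.1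
  let one : Γ(A, U) := (show Γ(U.toScheme, j ⁻¹ᵁ U) from 1)
  obtain ⟨e, hl, hr⟩ := hpair U one s
  obtain ⟨p, hpU, hsup, hstep⟩ := QCoh.extStep_qcqs hU.isCompact
  obtain ⟨N, hN, hag⟩ := QCoh.exists_ftOn_top hG p hpU hsup hstep
    (QCoh.ftOn_spanSub hU (Set.finite_singleton e))
  have hN' : Coh.IsCoh N.toModules := ⟨QCoh.isQCoh_of_ftOn hG hN, QCoh.isFT_of_ftOn hG hN⟩
  let q₁ : N.toModules ⟶ A := N.ι ≫ π₁
  let q₂ : N.toModules ⟶ F := N.ι ≫ π₂
  obtain ⟨e', he'⟩ := N.exists_app_eq (U := U) (s := e) (by rw [hag U le_rfl]; exact QCoh.mem_spanSub rfl)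
  let Z : Closeds X := ⟨(U : Set X)ᶜ, U.2.isClosed_compl⟩
  let J := Scheme.IdealSheafData.vanishingIdeal Z
  have hJ : (J.support : Set X) = (U : Set X)ᶜ := Scheme.IdealSheafData.coe_support_vanishingIdeal Z
  have hT : Coh.IsCoh (kernel q₁) :=
    QCoh.isCoh_of_mono (kernel.ι q₁) hN' (QCoh.isQCoh_kernel hN'.1 hA q₁)
  have hzero : ∀ (V : X.Opens), V ≤ U → ∀ n : Γ(N.toModules, V), q₁.app V n = 0 → n = 0 := by
    intro V hV n hn
    refine N.ι_app_injective V ?_
    rw [map_zero]
    refine eq_zero_of_proj π₁ e hl hV (N.ι.app V n) ?_ hn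
    rw [← hag V hV]
    exact N.ι_app_mem V n
  have hs : CohB1.support (kernel q₁) ⊆ (J.support : Set X) := fun x hx => by
    rw [hJ]
    intro hxU
    refine hx ?_
    haveI : Subsingleton ((kernel q₁).presheaf.stalk x) := by
      refine ⟨fun a b => ?_⟩
      suffices h : ∀ a : ↥((kernel q₁).presheaf.stalk x), a = 0 from (h a).trans (h b).symm
      intro a
      obtain ⟨V, hxV, v, rfl⟩ := TopCat.Presheaf.germ_exist (kernel q₁).presheaf a
      have hv : AModX.res (kernel q₁) (inf_le_left : V ⊓ U ≤ V) v = 0 :=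
        QCoh.app_injective (kernel.ι q₁) _ ((hzero _ inf_le_right _
          (congrArg (fun φ => Scheme.Modules.Hom.app φ (V ⊓ U) (AModX.res (kernel q₁) inf_le_left v))
            (kernel.condition q₁))).trans (map_zero _).symm)
      rw [← InvX.germ_res' (inf_le_left : V ⊓ U ≤ V) (show x ∈ V ⊓ U from ⟨hxV, hxU⟩) v, hv]
      exact map_zero _
    exact this
  obtain ⟨n, hn⟩ := QCoh.exists_pow_mono hN' hT (kernel.ι q₁) J hs
  let u := (Scheme.Modules.pullbackPushforwardAdjunction (J ^ n).subschemeι).unit.app N.toModules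
  haveI := hn
  haveI : Mono (kernel.ι u ≫ q₁) := Preadditive.mono_of_cancel_zero _ fun {W} w hw => by
    rw [← Category.assoc] at hw
    have h1 : kernel.lift q₁ (w ≫ kernel.ι u) hw = 0 := by
      rw [← cancel_mono (kernel.ι q₁ ≫ u), ← Category.assoc, kernel.lift_ι, Category.assoc,
        kernel.condition, comp_zero, zero_comp]
    rw [← cancel_mono (kernel.ι u), zero_comp, ← kernel.lift_ι q₁ (w ≫ kernel.ι u) hw, h1, zero_comp]
  have hK : Coh.IsCoh (kernel u) := isCoh_kernel_unit (J ^ n) hN'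
  refine ⟨kernel u, kernel.ι u ≫ q₂, hK, torsFree_of_mono (U := U) (kernel.ι u ≫ q₁), fun x hx => ?_⟩
  · -- the section is hit
    obtain ⟨W, hW, hxW, hWle⟩ := exists_isAffineOpen_mem_and_subset (show x ∈ U from hx)
    have hWU : W ≤ U := hWle
    have htop : (J ^ n).ideal ⟨W, hW⟩ = ⊤ := by
      have h1 : J.ideal ⟨W, hW⟩ = ⊤ := ideal_eq_top_of_disjoint J hW fun z hz hzJ => by
        rw [hJ] at hzJ
        exact hzJ (hWU hz)
      rw [Scheme.IdealSheafData.ideal_pow, Pi.pow_apply, h1, Ideal.top_pow]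
    have hu : u.app W (AModX.res N.toModules hWU e') = 0 := by
      refine ((QCoh.unit_app_closed (J ^ n).subschemeι hN'.1 hW).2 _).2 ?_
      rw [Scheme.IdealSheafData.ker_subschemeι, htop, Submodule.top_smul]
      trivial
    obtain ⟨w, hw⟩ := QCoh.exists_kernel_lift u W _ hu
    refine ⟨(kernel u).presheaf.germ W x hxW w, ?_⟩
    refine (DerSch.stalkFunctor_map_germ x _ W hxW w).trans ?_
    have h7 : (kernel.ι u ≫ q₂).app W w = AModX.res F hWU s := by
      show π₂.app W (N.ι.app W ((kernel.ι u).app W w)) = _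
      rw [hw]
      refine (congrArg _ ((AModX.app_res N.ι hWU e').trans (congrArg _ he'))).trans ?_
      exact (AModX.app_res π₂ hWU e).trans (congrArg _ hr)
    exact (congrArg _ h7).trans (InvX.germ_res' hWU hxW s)

end Groth.Agent.AmpleFamGen
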